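import Groth.Agent.H29CurvSt.Connected.Predicates
import Groth.Agent.H29CurvSt.Exist
import Groth.Agent.H19Grp.AlgClosedGeom

/-!
# The projective line is a connected prestable curve of dimension one
-/

set_option autoImplicit false
set_option linter.style.haveILetI false
set_option backward.isDefEq.respectTransparency false

universe u

open CategoryTheory CategoryTheory.Limits AlgebraicGeometry
open AlgSp

namespace Groth.Agent.H29CurvSt.Connected

variable {S : Scheme.{u}} {Ω : Type u} [Field Ω] [IsAlgClosed Ω] {K : Type u} [Field K]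
  {s : Spec (CommRingCat.of K) ⟶ Spec (CommRingCat.of Ω)} {X' : Scheme.{u}} {i : X' ⟶ CohB1.ProjSpace 1 Ω}
  {q : X' ⟶ Spec (CommRingCat.of K)}

theorem connectedSpace_of_isPullback_line (h : IsPullback i q (CohB1.ProjSpace.toSpec 1 Ω) s) : ConnectedSpace ↥X' := by
  haveI : IsIntegral (CohB1.ProjSpace 1 Ω) := LeadPic.PnRel.isIntegral_projSpace (n := 1) Ω
  haveI : GeometricallyConnected (CohB1.ProjSpace.toSpec 1 Ω) :=
    H19Grp.geometricallyConnected_of_connectedSpace _
  exact GeometricallyConnected.geometrically_connectedSpace (f := CohB1.ProjSpace.toSpec 1 Ω) s i q h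

theorem dim_eq_one_of_isPullback_line (h : IsPullback i q (CohB1.ProjSpace.toSpec 1 Ω) s) :
    topologicalKrullDim ↥X' = 1 := by
  haveI : Smooth q := MorphismProperty.of_isPullback h (smooth_line Ω)
  haveI := connectedSpace_of_isPullback_line h
  haveI : Subsingleton (Spec (CommRingCat.of K)) := inferInstanceAs (Subsingleton (PrimeSpectrum K))
  have hd : ∀ x, FlatMor.fibreDimAt q x = ((1 : ℕ) : WithBot ℕ∞) := fun x =>
    (H8Props.FieldDim.fibreDimAt_baseChange (CohB1.ProjSpace.toSpec 1 Ω) h x).trans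
      (H8Props.FieldDim.fibreDimAt_of_smoothOfRelativeDimension (CohB1.ProjSpace.toSpec 1 Ω) 1 _)
  refine (dim_eq_one_iff q ((H13AlgSp.FibreDim.dim_le_iff_localDim _).2 fun x => ?_)).2 hd
  rw [← Groth.Agent.H12AlgSp.fibreDimAt_of_subsingleton q, hd]
  exact_mod_cast le_rfl

theorem isPrestable_lineObj (t : Spec (CommRingCat.of Ω) ⟶ S) : CurvSt.SpIsPrestable (lineObj t).obj := by
  refine ⟨?_, geomFib_line t (Q := fun _ _ _ X' _ => ConnectedSpace ↥X')
    fun K _ _ s X' i q h => connectedSpace_of_isPullback_line h⟩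
  rw [← allPts_nodalNear]
  refine @locP_yon_of_allPts _ _ openFibrewise_nodalNear _ _ _
    (inferInstance : Flat (CohB1.ProjSpace.toSpec 1 Ω))
    (inferInstance : LocallyOfFinitePresentation (CohB1.ProjSpace.toSpec 1 Ω)) ?_
  rw [allPts_nodalNear]
  exact isNodalFamily_of_smoothOfRelativeDimension (CohB1.ProjSpace.toSpec 1 Ω)

end Groth.Agent.H29CurvSt.Connected
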