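import Groth.Agent.H29CurvSt.Connected.Locus
import Groth.Agent.H29CurvSt.FibreCriterion
import Groth.Agent.H29CurvSt.StalkLocus
import Groth.Agent.H29CurvSt.NodalLocus
import Groth.Agent.H29CurvSt.IsolatedNonsmooth
import Groth.Agent.H29Node.NodalMax
import Groth.Agent.H05EGA4.DimFibre
import Groth.Agent.H11Node.Geom

/-!
# Open loci of reduced connected curves of dimension one and of prestable curves
-/

set_option autoImplicit false
set_option linter.style.haveILetI false
set_option backward.isDefEq.respectTransparency false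

universe u

open CategoryTheory CategoryTheory.Limits AlgebraicGeometry Topology TopologicalSpace
open AlgSp Groth.Agent.H12AlgSp

namespace Groth.Agent.H29CurvSt.Connected

variable {S : Scheme.{u}} {n : ℕ}

theorem exists_isLocus_openFibrewise {Q : ∀ U V : Scheme.{u}, (U ⟶ V) → ↥U → Prop} (hQ : OpenFibrewise Q)
    (A : (CurvSt.Curves S n).obj) : ∃ W, IsLocus (fun B => LocP (allPts Q) B.obj.f) A W := by
  obtain ⟨W, hW⟩ := hQ.exists_open A.property.1 (locP_FL_of_isCurveFam A.property) (isClosedMap_of_isCurveFam A.property)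
  exact ⟨W, fun B φ => hW B.property.1 φ.hom.cart⟩

theorem exists_isLocus_and {P Q : (CurvSt.Curves S n).obj → Prop} {A : (CurvSt.Curves S n).obj}
    (hP : ∃ W, IsLocus P A W) (hQ : ∃ W, IsLocus Q A W) : ∃ W, IsLocus (fun B => P B ∧ Q B) A W := by
  obtain ⟨W₁, h₁⟩ := hP
  obtain ⟨W₂, h₂⟩ := hQ
  refine ⟨W₁ ⊓ W₂, fun B φ => ?_⟩
  show P B ∧ Q B ↔ _
  rw [h₁ B φ, h₂ B φ]
  exact forall_and.symm

theorem exists_isLocus_congr {P Q : (CurvSt.Curves S n).obj → Prop} {A : (CurvSt.Curves S n).obj}
    (h : ∀ B, P B ↔ Q B) (hP : ∃ W, IsLocus P A W) : ∃ W, IsLocus Q A W := by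
  obtain ⟨W, hW⟩ := hP
  exact ⟨W, fun B φ => (h B).symm.trans (hW B φ)⟩

/-- For a connected curve over a field, dimension one means fibre dimension one at every point. -/
theorem dim_eq_one_iff {Ω : Type u} [Field Ω] {X : Scheme.{u}} (q : X ⟶ Spec (CommRingCat.of Ω))
    [LocallyOfFiniteType q] [ConnectedSpace X] (hdim : topologicalKrullDim X ≤ 1) :
    topologicalKrullDim X = 1 ↔ ∀ x, FlatMor.fibreDimAt q x = ((1 : ℕ) : WithBot ℕ∞) := by
  haveI : Subsingleton (Spec (CommRingCat.of Ω)) := inferInstanceAs (Subsingleton (PrimeSpectrum Ω))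
  haveI : JacobsonSpace X := LocallyOfFiniteType.jacobsonSpace q
  have hle : ∀ x, FlatMor.fibreDimAt q x ≤ topologicalKrullDim X := fun x => by
    rw [Groth.Agent.H12AlgSp.fibreDimAt_of_subsingleton]
    exact H28Top.localDim_le_dim x
  constructor
  · intro h1 x
    by_contra hne
    have h0 : FlatMor.fibreDimAt q x ≤ 0 := by
      have := lt_of_le_of_ne ((hle x).trans hdim) (by simpa using hne)
      revert this
      generalize FlatMor.fibreDimAt q x = d
      intro this
      induction d using WithBot.recBotCoe with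
      | bot => exact bot_le
      | coe d =>
        have : d < 1 := by exact_mod_cast this
        have : d ≤ 0 := by rw [ENat.lt_one_iff_eq_zero.1 this]
        exact_mod_cast this
    obtain ⟨O, hO, hxO, hs⟩ := (fibreDimAt_le_zero_iff_isolated q x).1 h0
    have hopen : IsOpen ({x} : Set X) := by
      rwa [show ({x} : Set X) = O from Set.ext fun w => ⟨fun h => h ▸ hxO, fun hw => hs w hw (Subsingleton.elim _ _)⟩]
    have huniv : ({x} : Set X) = Set.univ :=
      IsClopen.eq_univ ⟨isClosed_singleton_of_isLocallyClosed_singleton hopen.isLocallyClosed, hopen⟩ ⟨x, rfl⟩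
    haveI : Subsingleton X := ⟨fun a b => by
      have ha : a ∈ ({x} : Set X) := huniv.symm ▸ trivial
      have hb : b ∈ ({x} : Set X) := huniv.symm ▸ trivial
      exact (Set.mem_singleton_iff.1 ha).trans (Set.mem_singleton_iff.1 hb).symm⟩
    have := topologicalKrullDim_zero_of_discreteTopology X
    rw [h1] at this
    exact absurd this (not_le.2 zero_lt_one)
  · intro h
    refine le_antisymm hdim ?_
    have := hle (Classical.arbitrary X)
    rw [h] at this
    exact_mod_cast this

/-- The geometric fibres are reduced, connected and of dimension one. -/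
theorem redConnDimOne_iff {A : CurvSt.SpFamObj S n} (hA : CurvSt.IsCurveFam A) :
    CurvSt.GeomFib (fun _ _ _ X' _ _ => IsReduced X' ∧ ConnectedSpace ↥X' ∧ topologicalKrullDim ↥X' = 1) A ↔
      (GeomReducedFibres A ∧ ConnFibres A) ∧ LocP (allPts (DimAnd 1 (FibAt CMRing))) A.f := by
  rw [← geomFib_allPts_iff (openFibrewise_cm.dimAnd 1 fun _ _ h => h.2) hA]
  constructor
  · intro h
    refine ⟨⟨fun Ω _ _ t X' q i hP => (h Ω t X' q i hP).1, fun Ω _ _ t X' q i hP => (h Ω t X' q i hP).2.1⟩,
      fun Ω _ _ t X' q i hP x => ?_⟩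
    obtain ⟨hl, -, -, hd⟩ := geomFibre_facts hA hP
    obtain ⟨hr, hc, h1⟩ := h Ω t X' q i hP
    haveI := hl; haveI := hr; haveI := hc
    haveI : IsLocallyNoetherian X' := LocallyOfFiniteType.isLocallyNoetherian q
    exact ⟨(H29Curve.fibre_stalk_iff cm_iso (𝟙 _) q x).2 (H29Node.isCM_of_isReduced_of_dim_le_one _
      ((H05EGA4.DimFibre.stalkDim_le_top x).trans hd)), (dim_eq_one_iff q hd).1 h1 x⟩
  · rintro ⟨⟨h1, h2⟩, h3⟩ Ω _ _ t X' q i hP
    obtain ⟨hl, -, -, hd⟩ := geomFibre_facts hA hP
    haveI := hl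
    haveI := h2 Ω t X' q i hP
    exact ⟨h1 Ω t X' q i hP, inferInstance, (dim_eq_one_iff q hd).2 fun x => (h3 Ω t X' q i hP x).2⟩

/-- Geometrically reduced connected fibres of dimension one cut out an open locus. -/
theorem exists_isLocus_redConnDimOne (A : (CurvSt.Curves S n).obj) :
    ∃ W, IsLocus (fun B => CurvSt.GeomFib
      (fun _ _ _ X' _ _ => IsReduced X' ∧ ConnectedSpace ↥X' ∧ topologicalKrullDim ↥X' = 1) B.obj) A W :=
  exists_isLocus_congr (fun B => (redConnDimOne_iff B.property).symm) (exists_isLocus_and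
    (exists_isLocus_reducedConnected A) (exists_isLocus_openFibrewise (openFibrewise_cm.dimAnd 1 fun _ _ h => h.2) A))

/-- A nodal family over a field is reduced. -/
theorem isReduced_of_nodalFam {Ω : Type u} [Field Ω] {X : Scheme.{u}} (q : X ⟶ Spec (CommRingCat.of Ω))
    (h : Curv2.IsNodalFamily q) : IsReduced X := by
  obtain ⟨-, hl, hs⟩ := h
  haveI := hl
  let s : Spec (CommRingCat.of Ω) := IsLocalRing.closedPoint Ω
  letI : (q.fiber s).Over (Spec ((Spec (CommRingCat.of Ω)).residueField s)) := ⟨q.fiberToSpecResidueField s⟩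
  haveI : LocallyOfFiniteType (q.fiber s ↘ Spec ((Spec (CommRingCat.of Ω)).residueField s)) :=
    H8Props.FieldDim.locallyOfFiniteType_fiberToSpec q s
  haveI : IsReduced (q.fiber s) := H11Node.isReduced_of_atWorstNodal (hs s).2
  haveI : Flat ((Spec (CommRingCat.of Ω)).fromSpecResidueField s) := inferInstance
  haveI : Flat (q.fiberι s) := MorphismProperty.pullback_fst _ _ inferInstance
  haveI : Surjective (q.fiberι s) := ⟨fun x => by
    have : x ∈ Set.range (q.fiberι s) := by
      rw [q.range_fiberι]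
      exact Subsingleton.elim (α := PrimeSpectrum Ω) _ _
    exact this⟩
  exact H13AlgSp.FibreRed.isReduced_of_flat_surjective (q.fiberι s)

theorem geomReducedFibres_of_nodal {A : CurvSt.SpFamObj S n} (hA : CurvSt.IsCurveFam A)
    (h : LocP CurvSt.nodalFam A.f) : GeomReducedFibres A := by
  rw [← allPts_nodalNear, ← geomFib_allPts_iff openFibrewise_nodalNear hA] at h
  intro Ω _ _ t X' q i hP
  refine isReduced_of_nodalFam q ?_
  have := h Ω t X' q i hP
  rwa [allPts_nodalNear] at this

/-- Prestable families cut out an open locus. -/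
theorem exists_isLocus_prestable (A : (CurvSt.Curves S n).obj) :
    ∃ W, IsLocus (fun B => CurvSt.SpIsPrestable B.obj) A W := by
  refine exists_isLocus_congr (fun B => ⟨fun h => ⟨allPts_nodalNear ▸ h.2, h.1.2⟩,
    fun h => ⟨⟨geomReducedFibres_of_nodal B.property h.1, h.2⟩, allPts_nodalNear.symm ▸ h.1⟩⟩)
    (exists_isLocus_and (exists_isLocus_reducedConnected A) (exists_isLocus_openFibrewise openFibrewise_nodalNear A))

end Groth.Agent.H29CurvSt.Connected
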